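import Groth.Agent.Lib.CurveAmple18.Basic
import Groth.Agent.Lib.CurveCoh17.Degree
import Groth.Agent.Lib.RankFree12.Scheme

/-!
# Euler characteristic of a coherent module tensored with a locally free one
-/

set_option autoImplicit false
set_option linter.style.haveILetI false
set_option maxHeartbeats 800000
set_option backward.isDefEq.respectTransparency false

universe u

open CategoryTheory CategoryTheory.Limits AlgebraicGeometry TopologicalSpace Opposite TensorProduct

namespace Groth.Agent.CurveAmple18

open Groth.Agent.CurveCoh17 Groth.Agent.M1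

variable {X : Scheme.{u}}

/-- A coherent module on an integral scheme is free of its generic rank on a dense affine open. -/
theorem exists_affine_generic_free [IsIntegral X] [IsNoetherian X] {F : X.Modules} (hF : Coh.IsCoh F) :
    ∃ U : X.Opens, IsAffineOpen U ∧ genericPoint X ∈ U ∧
      Nonempty (FlatMod.freeMod (U : Scheme.{u})
        (Module.finrank (X.presheaf.stalk (genericPoint X)) (F.presheaf.stalk (genericPoint X))) ≅
          F.restrict U.ι) := by
  have hK : IsField (X.presheaf.stalk (genericPoint X)) := Field.toIsField X.functionField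
  haveI : Module.Free (X.presheaf.stalk (genericPoint X)) (F.presheaf.stalk (genericPoint X)) := by
    letI := hK.toField
    exact Module.Free.of_divisionRing _ _
  obtain ⟨U, n, hU, ⟨e⟩⟩ := exists_freeMod_of_free_stalk (isFP_of_isCoh hF) (genericPoint X)
  have hn := RankFree12.rk_of_freeMod hF.1 e hU
  rw [RankFree12.rk, Module.finrank_baseChange] at hn
  obtain ⟨W, hW, hxW, hWU⟩ := exists_isAffineOpen_mem_and_subset (x := genericPoint X) (U := U) hU
  have h : Set.range W.ι ⊆ Set.range U.ι := by rw [Scheme.Opens.range_ι, Scheme.Opens.range_ι]; exact hWU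
  refine ⟨W, hW, hxW, ?_⟩
  rw [hn]
  exact ⟨((restrictLiftIso F U.ι W.ι h).symm ≪≫
    (Scheme.Modules.restrictFunctor (IsOpenImmersion.lift U.ι W.ι h)).mapIso e ≪≫
      M2.freeModRestrictIso (IsOpenImmersion.lift U.ι W.ι h) n).symm⟩

/-- A coherent module and the free module of the generic rank receive a common coherent module by maps
which are isomorphisms outside finitely many closed points. -/
theorem exists_zigzag_coh [IsIntegral X] [IsNoetherian X] [X.IsSeparated] (hd : topologicalKrullDim X ≤ 1)
    {F : X.Modules} (hF : Coh.IsCoh F) :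
    ∃ (W : X.Modules) (φ : W ⟶ F)
      (ψ : W ⟶ FlatMod.freeMod X
        (Module.finrank (X.presheaf.stalk (genericPoint X)) (F.presheaf.stalk (genericPoint X))))
      (S : Finset X), Coh.IsCoh W ∧
      SuppIn (kernel φ) S ∧ SuppIn (cokernel φ) S ∧ SuppIn (kernel ψ) S ∧ SuppIn (cokernel ψ) S := by
  obtain ⟨U, hU, hgen, ⟨α⟩⟩ := exists_affine_generic_free hF
  generalize Module.finrank (X.presheaf.stalk (genericPoint X)) (F.presheaf.stalk (genericPoint X)) = r at α ⊢
  obtain ⟨S, hS, hScl⟩ := exists_finset_closedPoints hd (C := (U : Set X)ᶜ) U.isOpen.isClosed_compl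
    fun g hg hgC => hgC (eq_genericPoint_of_maximal hg ▸ hgen)
  have hUS : ∀ x : X, x ∉ S → x ∈ U := fun x hx => by
    by_contra hxU
    exact hx (Finset.mem_coe.1 (hS ▸ hxU : x ∈ (S : Set X)))
  haveI : IsAffineHom U.ι := isAffineHom_ι hU
  have hFF := M1.isFP_of_isFinLocFree (M2.isFinLocFree_of_ofRank (M2.isFinLocFreeOfRank_freeMod X r))
  let P := (Scheme.Modules.pushforward U.ι).obj (F.restrict U.ι)
  have hP : Coh.IsQCoh P := PushFin12.isQCoh_pushforward U.ι (F.restrict U.ι) (isQCoh_restrict hF.1 U.ι)
  let a : F ⟶ P := (Scheme.Modules.restrictAdjunction U.ι).unit.app F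
  let β : (FlatMod.freeMod X r).restrict U.ι ≅ F.restrict U.ι := M2.freeModRestrictIso U.ι r ≪≫ α
  let b : FlatMod.freeMod X r ⟶ P := (Scheme.Modules.restrictAdjunction U.ι).unit.app _ ≫
    (Scheme.Modules.pushforward U.ι).map β.hom
  have ha : IsIso ((Scheme.Modules.restrictFunctor U.ι).map a) := isIso_restrict_unit U.ι F
  have hb : IsIso ((Scheme.Modules.restrictFunctor U.ι).map b) := by
    haveI := isIso_restrict_unit U.ι (FlatMod.freeMod X r)
    simp only [b, Functor.map_comp]
    infer_instance
  have hfst := (Twist.isIso_restrict_map_iff _ U).1 (isIso_restrict_fst a b U.ι hb)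
  have hsnd := (Twist.isIso_restrict_map_iff _ U).1 (isIso_restrict_snd a b U.ι ha)
  obtain ⟨h1, h2⟩ := suppIn_kernel_cokernel _ hScl hUS hfst
  obtain ⟨h3, h4⟩ := suppIn_kernel_cokernel _ hScl hUS hsnd
  exact ⟨_, _, _, S, isCoh_fibreProd hF ⟨isFP_isQCoh hFF, isFP_isFT hFF⟩ hP a b, h1, h2, h3, h4⟩

variable {k : Type u} [Field k] [X.Over (Spec (CommRingCat.of k))] [IsProper (X ↘ (Spec (CommRingCat.of k)))]

theorem euler_tensor_coh [IsIntegral X] (hd : topologicalKrullDim X ≤ 1) {n : ℕ} {E F : X.Modules}
    (hE : FlatMod.IsFinLocFreeOfRank n E) (hF : Coh.IsCoh F) :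
    Curv2.euler k X (CohB1.tensorMod E F) =
      (Module.finrank (X.presheaf.stalk (genericPoint X)) (F.presheaf.stalk (genericPoint X)) : ℤ) *
        Curv2.deg k X E n + n * Curv2.euler k X F := by
  have hX := curveLike k X hd
  haveI := hX.noetherian
  haveI := hX.separated
  obtain ⟨W, φ, ψ, S, hW, h1, h2, h3, h4⟩ := exists_zigzag_coh hd hF
  generalize Module.finrank (X.presheaf.stalk (genericPoint X)) (F.presheaf.stalk (genericPoint X)) = r at ψ h3 h4 ⊢
  have e := nonempty_stalk_equiv hE
  have hWE := hX.adm (isCoh_tensor hW (isCoh_of_ofRank hE))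
  have hfree := M2.isFinLocFreeOfRank_freeMod X r
  have a1 := euler_sub_tensor φ (hX.adm hW) (hX.adm hF) h1 h2 E e hWE
  have a2 := euler_sub_tensor ψ (hX.adm hW) (hX.adm (isCoh_of_ofRank hfree)) h3 h4 E e hWE
  rw [hX.euler_tensor hfree hE, hX.euler_freeMod] at a2
  rw [euler_iso (M2.tensorComm E F), Curv2.deg]
  linear_combination a1 - a2

end Groth.Agent.CurveAmple18
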