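import Groth.Agent.Lib.CurveAmple18.Basic
import Groth.Agent.Lib.CurveCoh17.Twist
import Groth.Agent.Lib.EffCartier.Dense
import Groth.Agent.Lib.TensorMod.IdealMod
import Groth.Agent.Lib.TensorMod.Dual
import Mathlib.AlgebraicGeometry.Morphisms.QuasiFinite

/-!
# Effective Cartier divisors on schemes of dimension at most one
-/

set_option autoImplicit false
set_option linter.style.haveILetI false
set_option backward.isDefEq.respectTransparency false

universe u

open CategoryTheory CategoryTheory.Limits AlgebraicGeometry TopologicalSpace Opposite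

namespace Groth.Agent.CurveAmple18

open Groth.Agent.CurveCoh17

variable {k : Type u} [Field k] {X : Scheme.{u}}

theorem isClosed_point_of_mem (hd : topologicalKrullDim X ≤ 1) {D : X.IdealSheafData}
    (hD : BlowUp.IsEffCartierIdeal D) {x : X} (hx : x ∈ (D.support : Set X)) : IsClosed ({x} : Set X) := by
  obtain ⟨y, hy, hyx⟩ := EffCartier.exists_specializes_cmpl hD x
  rw [← closure_eq_iff_isClosed]
  refine Set.Subset.antisymm (fun z hz => ?_) subset_closure
  have hxz : x ⤳ z := specializes_iff_mem_closure.2 hz
  by_contra hne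
  have hxy : x ≠ y := fun h => hy (h ▸ hx)
  have h1 := Order.height_add_one_le (VarDim.lt_of_specializes_ne hxz hne)
  have h2 := Order.height_add_one_le (VarDim.lt_of_specializes_ne hyx hxy)
  have h3 : (Order.height y : WithBot ℕ∞) ≤ ((1 : ℕ∞) : WithBot ℕ∞) :=
    (ProjDeg17.height_le_dim_of_mem isClosed_univ (Set.mem_univ y)).trans
      ((Topology.IsInducing.subtypeVal.topologicalKrullDim_le).trans hd)
  have h4 : Order.height z + 1 + 1 ≤ (1 : ℕ∞) :=
    ((add_le_add h1 le_rfl).trans h2).trans (WithBot.coe_le_coe.1 h3)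
  rw [add_assoc] at h4
  have h5 : ((2 : ℕ) : ℕ∞) ≤ ((1 : ℕ) : ℕ∞) := by
    refine le_trans ?_ h4
    norm_num
  exact absurd (Nat.cast_le.1 h5) (by norm_num)

theorem finite_support [IsNoetherian X] (hd : topologicalKrullDim X ≤ 1) {D : X.IdealSheafData}
    (hD : BlowUp.IsEffCartierIdeal D) : (D.support : Set X).Finite := by
  obtain ⟨G, hG⟩ := VarDim.exists_finite_generic (X := X) D.support.isClosed
  refine G.finite_toSet.subset fun x hx => ?_
  obtain ⟨g, hg, hgx⟩ := (hG x).1 hx
  have hgD : g ∈ (D.support : Set X) := (hG g).2 ⟨g, hg, specializes_rfl⟩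
  exact Set.mem_singleton_iff.1 (hgx.mem_closed (isClosed_point_of_mem hd hD hgD) rfl) ▸ hg

theorem dim_support_le [IsNoetherian X] (hd : topologicalKrullDim X ≤ 1) {D : X.IdealSheafData}
    (hD : BlowUp.IsEffCartierIdeal D) : topologicalKrullDim (D.support : Set X) ≤ 0 := by
  haveI : Finite (D.support : Set X) := (finite_support hd hD).to_subtype
  haveI : T1Space (D.support : Set X) := ⟨fun x => by
    have h := (isClosed_point_of_mem hd hD x.2).preimage
      (continuous_subtype_val : Continuous (Subtype.val : ↥((D.support : Set X)) → X))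
    convert h using 1
    exact Set.ext fun z => ⟨fun hz => congrArg Subtype.val (Set.mem_singleton_iff.1 hz),
      fun hz => Set.mem_singleton_iff.2 (Subtype.ext (Set.mem_singleton_iff.1 hz))⟩⟩
  haveI : DiscreteTopology (D.support : Set X) := inferInstance
  exact topologicalKrullDim_zero_of_discreteTopology _

variable [X.Over (Spec (CommRingCat.of k))] [IsProper (X ↘ (Spec (CommRingCat.of k)))]

theorem isFinite_divisor (hd : topologicalKrullDim X ≤ 1) {D : X.IdealSheafData}
    (hD : BlowUp.IsEffCartierIdeal D) : IsFinite (D.subschemeι ≫ (X ↘ (Spec (CommRingCat.of k)))) := by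
  haveI := (curveLike k X hd).noetherian
  haveI : Finite D.subscheme := by
    have h : (Set.range D.subschemeι).Finite := by
      rw [Scheme.IdealSheafData.range_subschemeι]
      exact finite_support hd hD
    haveI := h.to_subtype
    exact Finite.of_injective (fun x : D.subscheme => (⟨D.subschemeι x, x, rfl⟩ : Set.range D.subschemeι))
      fun a b h => D.subschemeι.isEmbedding.injective (Subtype.mk_eq_mk.1 h)
  let c := D.subschemeι ≫ (X ↘ (Spec (CommRingCat.of k)))
  haveI : LocallyQuasiFinite c := LocallyQuasiFinite.of_finite_preimage_singleton c fun _ => Set.toFinite _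
  exact .of_locallyQuasiFinite c

theorem deg_idealMod (hd : topologicalKrullDim X ≤ 1) {D : X.IdealSheafData}
    (hD : BlowUp.IsEffCartierIdeal D) :
    Curv2.deg k X (ClSub.idealMod D) 1 = -(Module.finrank k (Coh.HH X (ClSub.quotMod D) 0) : ℤ) := by
  have hX := curveLike k X hd
  haveI := hX.noetherian
  obtain ⟨S, hS⟩ := exists_suppIn_quotMod D (dim_support_le hd hD)
  have hfin := hX.fin _ (isCoh_quotMod D) 0
  have h := euler_add (M2.shortExact_idealMod D) (hX.adm (isCoh_idealMod D)) (hS.adm hfin)
  change Curv2.euler k X (Coh.structureModule X) =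
    Curv2.euler k X (ClSub.idealMod D) + Curv2.euler k X (ClSub.quotMod D) at h
  rw [hS.euler_eq hfin] at h
  rw [Curv2.deg]
  push_cast
  linarith

end Groth.Agent.CurveAmple18
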