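import Groth.Agent.Lib.CurveCoh17.Section
import Groth.Agent.Lib.CurveCoh17.Degree
import Groth.Agent.Lib.CohFound.ProperFinite
import Groth.Agent.Lib.Ample18.Ample

/-!
# Proper schemes of dimension at most one are curve-like; sections of invertible modules
-/

set_option autoImplicit false
set_option linter.style.haveILetI false
set_option backward.isDefEq.respectTransparency false

universe u

open CategoryTheory CategoryTheory.Limits AlgebraicGeometry TopologicalSpace Opposite

namespace Groth.Agent.CurveAmple18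

open Groth.Agent.CurveCoh17
open Groth.Agent.M1 (secHom)

theorem isSeparated (k : Type u) [Field k] (X : Scheme.{u}) [X.Over (Spec (CommRingCat.of k))]
    [IsProper (X ↘ (Spec (CommRingCat.of k)))] : X.IsSeparated := ⟨by
  have : terminal.from X = (X ↘ (Spec (CommRingCat.of k))) ≫ terminal.from _ := Subsingleton.elim _ _
  rw [this]; infer_instance⟩

variable (k : Type u) [Field k] (X : Scheme.{u}) [X.Over (Spec (CommRingCat.of k))]
  [IsProper (X ↘ (Spec (CommRingCat.of k)))]

theorem curveLike (hd : topologicalKrullDim X ≤ 1) : CurveLike k X :=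
  ⟨CohFound.isNoetherian_of_isProper (X ↘ (Spec (CommRingCat.of k))), isSeparated k X, hd,
    fun M hM n => CohFound.finite_HH_of_isProper M hM n⟩

variable {k X}

/-- A section is a generator exactly where its map from the structure sheaf is surjective. -/
theorem gen_of_surjective {L : X.Modules} (hL : PicF.IsInvertible L) (s : Γ(L, (⊤ : X.Opens))) (x : X)
    (h : Function.Surjective (stalkLin (secHom s) x)) : x ∈ CohB1.genLocus L (secHom s) := by
  obtain ⟨U, e, hxU, -, -, he⟩ := Amp.exists_isGenerator hL (x := x) (V := ⊤) trivial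
  have hg := Amp.gen_of_isGenerator he hxU
  obtain ⟨b, hb⟩ := h (Amp.gm L x hxU e)
  obtain ⟨c, -, hc⟩ := stalkLin_secHom s x b
  rw [hc] at hb
  obtain ⟨a, ha⟩ := hg.2 (Amp.gm L x (U := ⊤) trivial s)
  simp only at ha
  refine (Amp.mem_genLocus_iff hL _).2 ?_
  rw [Amp.gval_secHom, ← ha, hg.ne_zero_smul]
  have h1 : (c * a) • Amp.gm L x hxU e = (1 : X.presheaf.stalk x) • Amp.gm L x hxU e := by
    rw [mul_smul, one_smul]
    exact (congrArg (c • ·) ha).trans hb
  exact IsUnit.of_mul_eq_one c ((mul_comm a c).trans (hg.1 h1))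

/-- The degree of an invertible module with a nonzero section. -/
theorem deg_section [IsIntegral X] (hd : topologicalKrullDim X ≤ 1) {L : X.Modules}
    (hL : PicF.IsInvertible L) (s : Γ(L, (⊤ : X.Opens))) (hs : s ≠ 0) :
    0 ≤ Curv2.deg k X L 1 ∧ (Curv2.deg k X L 1 = 0 → IsIso (secHom s)) := by
  haveI := (curveLike k X hd).noetherian
  obtain ⟨t, -, he, -, -, -, hiso⟩ := (curveLike k X hd).section_numerics (rkOne_of_invertible hd hL) hs
  refine ⟨by rw [Curv2.deg, he]; push_cast; omega, fun h => hiso ?_⟩
  rw [Curv2.deg, he] at h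
  push_cast at h
  omega

theorem genLocus_eq_top_of_isIso {L : X.Modules} (φ : Coh.structureModule X ⟶ L) [IsIso φ] :
    CohB1.genLocus L φ = ⊤ :=
  top_le_iff.1 (Twist.le_genLocus (U := (⊤ : X.Opens)) inferInstance)

theorem gval_ne_zero {L : X.Modules} {φ : Coh.structureModule X ⟶ L} (h : φ ≠ 0) : Amp.gval φ ≠ 0 := fun h0 => h (by
  rw [← Amp.secHom_gval φ, h0]
  exact (congrArg secHom (rfl : Amp.gval (0 : Coh.structureModule X ⟶ L) = 0)).symm.trans (Amp.secHom_gval _))

end Groth.Agent.CurveAmple18
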