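import Groth.Agent.Lib.CurveAmple18.Basic
import Groth.Agent.Lib.AmpleImm18.AffineCrit
import Groth.Agent.Lib.CurveCoh17.TensorExact
import Groth.Agent.Lib.CurveCoh17.Vanish
import Groth.Agent.Lib.NegTwist18.Main
import Groth.Agent.Lib.TensorNat17.Basic

/-!
# On a proper integral curve ample means positive degree
-/

set_option autoImplicit false
set_option linter.style.haveILetI false
set_option backward.isDefEq.respectTransparency false

universe u

open CategoryTheory CategoryTheory.Limits AlgebraicGeometry TopologicalSpace Opposite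

namespace Groth.Agent.CurveAmple18

open Groth.Agent.CurveCoh17
open Groth.Agent.M1 (secHom)

variable {k : Type u} [Field k] {X : Scheme.{u}}

theorem isIso_of_genLocus_eq_top {L : X.Modules} (hL : PicF.IsInvertible L)
    (φ : Coh.structureModule X ⟶ L) (h : CohB1.genLocus L φ = ⊤) : IsIso φ := by
  rw [← Amp.secHom_gval φ, M1.isIso_iff_stalk]
  intro x
  have hx : x ∈ CohB1.genLocus L φ := by rw [h]; trivial
  have hg := (Amp.mem_genLocus_iff hL φ).1 hx
  refine ⟨fun a b hab => ?_, fun a => ?_⟩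
  · obtain ⟨c, ha, hc⟩ := stalkLin_secHom (Amp.gval φ) x a
    obtain ⟨d, hb, hd⟩ := stalkLin_secHom (Amp.gval φ) x b
    have hcd : c • Amp.gm L x (U := ⊤) trivial (Amp.gval φ) = d • Amp.gm L x (U := ⊤) trivial (Amp.gval φ) :=
      hc.symm.trans (hab.trans hd)
    rw [ha, hb, hg.1 hcd]
  · obtain ⟨c, rfl⟩ := hg.2 a
    refine ⟨c • ((Coh.structureModule X).presheaf.germ ⊤ x trivial (M1.one ⊤) :
      (Coh.structureModule X).presheaf.stalk x), ?_⟩
    show stalkLin (secHom (Amp.gval φ)) x _ = _
    rw [map_smul, stalkLin_apply]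
    refine congrArg (c • ·) ?_
    refine (M1.germ_naturality (secHom (Amp.gval φ)) ⊤ x trivial (M1.one ⊤)).trans ?_
    rw [M1.secHom_app_one]

/-- A proper open subset of a proper integral curve is affine. -/
theorem isAffineOpen_of_ne_top (q : X ⟶ Spec (CommRingCat.of k)) [IsProper q] [IsIntegral X]
    (hd : topologicalKrullDim X ≤ 1) (G : X.Opens) (hG : G ≠ ⊤) : IsAffineOpen G := by
  haveI := CohFound.isNoetherian_of_isProper q
  rcases eq_or_ne G ⊥ with rfl | hne
  · exact isAffineOpen_bot X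
  haveI : Nonempty (G : Scheme.{u}) := by
    obtain ⟨x, hx⟩ := (Opens.ne_bot_iff_nonempty G).1 hne
    exact ⟨⟨x, hx⟩⟩
  haveI : IsIntegral (G : Scheme.{u}) := isIntegral_of_isOpenImmersion G.ι
  haveI : NoetherianSpace (G : Scheme.{u}) := G.ι.isEmbedding.isInducing.noetherianSpace
  haveI : QuasiCompact G.ι := ⟨fun U _ _ => NoetherianSpace.isCompact _⟩
  refine AmpleImm18.isAffine_of_forall_not_isProper (G.ι ≫ q)
    (G.ι.isEmbedding.isInducing.topologicalKrullDim_le.trans hd) fun η hη _ hpr => hG ?_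
  let I : (G : Scheme.{u}).IdealSheafData := Scheme.IdealSheafData.vanishingIdeal ⟨closure {η}, isClosed_closure⟩
  have hI : I = ⊥ := by
    rw [← Scheme.IdealSheafData.support_eq_top_iff]
    refine SetLike.coe_injective ?_
    rw [Scheme.IdealSheafData.coe_support_vanishingIdeal, ← hη _ (genericPoint_specializes η)]
    exact genericPoint_spec (G : Scheme.{u})
  haveI : IsIso I.subschemeι := (Scheme.isIso_subschemeι_iff_eq_bot I).2 hI
  haveI := hpr
  haveI : IsProper (G.ι ≫ q) := by
    have : IsProper (inv I.subschemeι ≫ I.subschemeι ≫ G.ι ≫ q) := inferInstance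
    rwa [IsIso.inv_hom_id_assoc] at this
  haveI : IsProper G.ι := IsProper.of_comp G.ι q
  have hc : IsClosed (G : Set X) := by
    have h := G.ι.isClosedMap.isClosed_range
    rwa [Scheme.Opens.range_ι] at h
  have hu := hc.closure_eq
  have hu' := (G.2.dense ((Opens.ne_bot_iff_nonempty G).1 hne)).closure_eq
  rw [show (G.carrier : Set X) = (G : Set X) from rfl, hu] at hu'
  exact Opens.ext hu'

section
variable (k) [X.Over (Spec (CommRingCat.of k))] [IsProper (X ↘ (Spec (CommRingCat.of k)))]
include k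

/-- A power of an invertible module with a section `s` has a section generating where `s` does not. -/
theorem exists_second_section [IsIntegral X] (hd : topologicalKrullDim X ≤ 1) {L : X.Modules}
    (hL : PicF.IsInvertible L) (s : Γ(L, (⊤ : X.Opens))) (hs : s ≠ 0) :
    ∃ (m : ℕ) (t : Γ(CohB1.tensorPow L (m + 1), (⊤ : X.Opens))),
      CohB1.genLocus L (secHom s) ⊔ CohB1.genLocus _ (secHom t) = ⊤ := by
  classical
  have hX := curveLike k X hd
  haveI := hX.noetherian
  obtain ⟨hmono, S, hS⟩ := (rkOne_of_invertible hd hL).sec s hs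
  haveI := hmono
  let a : ℕ → ℕ := fun m => Module.finrank k (Coh.HH X (CohB1.tensorPow L m) 1)
  let T : ℕ → ShortComplex X.Modules := fun m => (secSC s).map (M2.tensorR (CohB1.tensorPow L m))
  have hT : ∀ m, (T m).ShortExact := fun m => shortExact_tensorR (secSC_shortExact s) _ fun x =>
    Module.Flat.of_linearEquiv (nonempty_stalk_equiv
      ((M2.isInvertible_iff_isFinLocFreeOfRank_one _).1 (M2.isInvertible_tensorPow hL m)) x).some
  have hQ : ∀ m, SuppIn (T m).X₃ S := fun m => hS.tensor _
  let e₁ : ∀ m, (T m).X₁ ≅ CohB1.tensorPow L m := fun m => M2.tensorLUnit _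
  let e₂ : ∀ m, (T m).X₂ ≅ CohB1.tensorPow L (m + 1) := fun m => M2.tensorComm L (CohB1.tensorPow L m)
  have hsurj : ∀ m, Function.Surjective (hmap k (T m).f 1) := fun m x => by
    haveI := (hQ m).subsingleton_HH 0
    exact (exact_hmap_hmap k (hT m) 1 x).1 (Subsingleton.elim _ _)
  have hfin : ∀ m, Module.Finite k (Coh.HH X (CohB1.tensorPow L m) 1) := fun m =>
    hX.fin _ (isCoh_of_ofRank ((M2.isInvertible_iff_isFinLocFreeOfRank_one _).1 (M2.isInvertible_tensorPow hL m))) 1
  obtain ⟨m, hm⟩ : ∃ m, a m ≤ a (m + 1) := by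
    by_contra hcon
    push Not at hcon
    have : ∀ m, a m + m ≤ a 0 := fun m => by
      induction m with
      | zero => exact le_rfl
      | succ m ih => have := hcon m; omega
    have := this (a 0 + 1)
    omega
  haveI := hfin m
  haveI : Module.Finite k (Coh.HH X (T m).X₁ 1) := Module.Finite.equiv (hequiv k (e₁ m) 1).symm
  haveI : Module.Finite k (Coh.HH X (T m).X₂ 1) := by
    haveI := hfin (m + 1)
    exact Module.Finite.equiv (hequiv k (e₂ m) 1).symm
  have hinj : Function.Injective (hmap k (T m).f 1) := by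
    refine (LinearMap.injective_iff_surjective_of_finrank_eq_finrank ?_).2 (hsurj m)
    refine le_antisymm ?_ (LinearMap.finrank_le_finrank_of_surjective (f := hmap k (T m).f 1) (hsurj m))
    rw [(hequiv k (e₁ m) 1).finrank_eq, (hequiv k (e₂ m) 1).finrank_eq]
    exact hm
  have hg : ∀ τ : Γ((T m).X₃, (⊤ : X.Opens)), ∃ w : Γ((T m).X₂, (⊤ : X.Opens)), (T m).g.app ⊤ w = τ := fun τ => by
    have h0 : hdelta k (hT m) 0 ((hh0 _).symm τ) = 0 := by
      refine hinj ?_
      rw [map_zero]
      exact (exact_hdelta_hmap k (hT m) 0).apply_apply_eq_zero _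
    obtain ⟨w, hw⟩ := (exact_hmap_hdelta k (hT m) 0 _).1 h0
    exact ⟨hh0 _ w, by rw [← hh0_hmap k, hw, AddEquiv.apply_symm_apply]⟩
  have hinv : PicF.IsInvertible (T m).X₂ := M2.isInvertible_tensor hL (M2.isInvertible_tensorPow hL m)
  choose U e hxU _ _ he using fun x : X => Amp.exists_isGenerator hinv (x := x) (V := ⊤) trivial
  obtain ⟨τ, hτ⟩ := (hQ m).exists_section ⊤ fun x => stalkLin (T m).g x (Amp.gm _ x (hxU x) (e x))
  obtain ⟨w, hw⟩ := hg τ
  refine ⟨m, (e₂ m).hom.app ⊤ w, top_le_iff.1 fun x _ => ?_⟩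
  by_cases hx : x ∈ CohB1.genLocus L (secHom s)
  · exact Or.inl hx
  refine Or.inr ?_
  have hxS : x ∈ S := by
    by_contra hxS
    refine hx (gen_of_surjective hL s x fun b => ?_)
    have hb : stalkLin (cokernel.π (secHom s)) x b = 0 := hS.zero x hxS _
    exact (M1.exact_iff_stalk_eq_zero (secSC s)).1 (secSC_shortExact s).exact x b hb
  show x ∈ CohB1.genLocus _ (secHom ((e₂ m).hom.app ⊤ w))
  rw [Amp.mem_genLocus_iff (M2.isInvertible_tensorPow hL (m + 1)), Amp.gval_secHom, Amp.gen_map_iso (e₂ m) (U := ⊤) trivial]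
  have hker : stalkLin (T m).g x (Amp.gm _ x (U := ⊤) trivial w - Amp.gm _ x (hxU x) (e x)) = 0 := by
    rw [map_sub, sub_eq_zero]
    refine Eq.trans ?_ (hτ x hxS trivial)
    rw [← hw]
    exact M1.germ_naturality (T m).g ⊤ x trivial w
  obtain ⟨b, hb⟩ := (M1.exact_iff_stalk_eq_zero (T m)).1 (hT m).exact x _ hker
  have hgen := Amp.gen_of_isGenerator (he x) (hxU x)
  -- the image of the first map lies in `m • stalk`
  have himg : stalkLin (T m).f x b ∈
      (IsLocalRing.maximalIdeal (X.presheaf.stalk x) • ⊤ : Submodule (X.presheaf.stalk x) _) := by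
    have h1 : ∀ c, stalkLin (secHom s) x c ∈
        (IsLocalRing.maximalIdeal (X.presheaf.stalk x) • ⊤ : Submodule (X.presheaf.stalk x) (L.presheaf.stalk x)) := fun c => by
      obtain ⟨U', e', hxU', -, -, he'⟩ := Amp.exists_isGenerator hL (x := x) (V := ⊤) trivial
      obtain ⟨d, -, hd'⟩ := stalkLin_secHom s x c
      obtain ⟨α, hα⟩ := (Amp.gen_of_isGenerator he' hxU').2 (Amp.gm L x (U := ⊤) trivial s)
      simp only at hα
      have hαm : α ∈ IsLocalRing.maximalIdeal (X.presheaf.stalk x) := fun hu => hx ((Amp.mem_genLocus_iff hL _).2 (by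
        rw [Amp.gval_secHom, ← hα]
        exact ((Amp.gen_of_isGenerator he' hxU').ne_zero_smul _).2 hu))
      rw [hd']
      refine Submodule.smul_mem _ d ?_
      show Amp.gm L x (U := ⊤) trivial s ∈ _
      rw [← hα]
      exact Submodule.smul_mem_smul hαm Submodule.mem_top
    let E := M2.stalkEquiv L (CohB1.tensorPow L m) x
    have h2 : ∀ z, LinearMap.rTensor ((CohB1.tensorPow L m).presheaf.stalk x) (stalkLin (secHom s) x) z ∈
        (IsLocalRing.maximalIdeal (X.presheaf.stalk x) • ⊤ : Submodule (X.presheaf.stalk x) _) := fun z => by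
      induction z using TensorProduct.induction_on with
      | zero => rw [map_zero]; exact zero_mem _
      | add z z' hz hz' => rw [map_add]; exact add_mem hz hz'
      | tmul c d =>
        rw [LinearMap.rTensor_tmul]
        have := Submodule.mem_map_of_mem (f := (TensorProduct.mk (X.presheaf.stalk x) _ _).flip d) (h1 c)
        rw [Submodule.map_smul''] at this
        exact Submodule.smul_mono le_rfl le_top this
    have h3 := h2 (M2.stalkEquiv (Coh.structureModule X) (CohB1.tensorPow L m) x b)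
    rw [← stalkEquiv_natural] at h3
    have h4 := Submodule.mem_map_of_mem (f := E.symm.toLinearMap) h3
    rw [Submodule.map_smul''] at h4
    have h5 : E.symm (E (stalkLin (T m).f x b)) ∈
        (IsLocalRing.maximalIdeal (X.presheaf.stalk x) • ⊤ : Submodule (X.presheaf.stalk x) _) :=
      Submodule.smul_mono le_rfl le_top h4
    rwa [LinearEquiv.symm_apply_apply] at h5
  obtain ⟨α, hα⟩ := hgen.2 (stalkLin (T m).f x b)
  simp only at hα
  have hαm : α ∈ IsLocalRing.maximalIdeal (X.presheaf.stalk x) := by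
    let E : X.presheaf.stalk x ≃ₗ[X.presheaf.stalk x] ((T m).X₂.presheaf.stalk x : Type u) :=
      LinearEquiv.ofBijective (LinearMap.toSpanSingleton (X.presheaf.stalk x) _ _) hgen
    have h := Submodule.mem_map_of_mem (f := E.symm.toLinearMap) himg
    rw [Submodule.map_smul'', Submodule.map_top, LinearEquiv.range, smul_eq_mul, Ideal.mul_top] at h
    have : E.symm (stalkLin (T m).f x b) = α := by rw [LinearEquiv.symm_apply_eq, ← hα]; rfl
    exact this ▸ h
  have hw' : Amp.gm _ x (U := ⊤) trivial w = (1 + α) • Amp.gm _ x (hxU x) (e x) := by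
    rw [add_smul, one_smul]
    refine (sub_eq_iff_eq_add'.1 ?_)
    exact hb.symm.trans hα.symm
  rw [hw', hgen.ne_zero_smul]
  by_contra hu
  exact (IsLocalRing.maximalIdeal.isMaximal (X.presheaf.stalk x)).ne_top ((Ideal.eq_top_iff_one _).2
    (by simpa using Ideal.sub_mem _ (show 1 + α ∈ IsLocalRing.maximalIdeal (X.presheaf.stalk x) from hu) hαm))

end

variable [X.Over (Spec (CommRingCat.of k))] [IsProper (X ↘ (Spec (CommRingCat.of k)))]

/-- Positive degree on a proper integral curve implies ample. -/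
theorem isAmple_of_deg_pos [IsIntegral X] (hd : topologicalKrullDim X ≤ 1) {L : X.Modules}
    (hL : PicF.IsInvertible L) (h : 0 < Curv2.deg k X L 1) : CohB1.IsAmple L := by
  have hX := curveLike k X hd
  haveI := hX.noetherian
  obtain ⟨n, hn, hpos⟩ : ∃ n : ℕ, 0 < n ∧ 0 < Module.finrank k (Coh.HH X (CohB1.tensorPow L n) 0) := by
    refine ⟨Curv2.genus k X + 1, Nat.succ_pos _, ?_⟩
    have hrr := hX.rr (isCoh_of_ofRank ((M2.isInvertible_iff_isFinLocFreeOfRank_one _).1
      (M2.isInvertible_tensorPow hL (Curv2.genus k X + 1))))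
    rw [hX.deg_tensorPow hL] at hrr
    by_contra hc
    rw [Nat.le_zero.1 (not_lt.1 hc)] at hrr
    push_cast at hrr
    nlinarith
  haveI := Module.nontrivial_of_finrank_pos (R := k) hpos
  obtain ⟨z, hz⟩ := exists_ne (0 : Coh.HH X (CohB1.tensorPow L n) 0)
  let L' := CohB1.tensorPow L n
  have hL' : PicF.IsInvertible L' := M2.isInvertible_tensorPow hL n
  let s : Γ(L', (⊤ : X.Opens)) := hh0 L' z
  obtain ⟨m, t, hcov⟩ := exists_second_section k hd hL' s (hh0_ne_zero hz)
  have hne : ∀ {M : X.Modules} (hM : PicF.IsInvertible M) (φ : Coh.structureModule X ⟶ M),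
      0 < Curv2.deg k X M 1 → CohB1.genLocus M φ ≠ ⊤ := fun {M} hM φ hdeg htop => by
    haveI := isIso_of_genLocus_eq_top hM φ htop
    rw [← deg_iso (k := k) (asIso φ), deg_structureModule] at hdeg
    exact lt_irrefl _ hdeg
  have hdeg' : 0 < Curv2.deg k X L' 1 := by
    rw [hX.deg_tensorPow hL]; positivity
  have hdeg'' : 0 < Curv2.deg k X (CohB1.tensorPow L' (m + 1)) 1 := by
    rw [hX.deg_tensorPow hL']; positivity
  refine (Amp.isAmple_tensorPow_iff hL hn).1 (Amp.isAmple_iff.2 ⟨hL', inferInstance, fun x => ?_⟩)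
  rcases (hcov.ge (Opens.mem_top x) : x ∈ CohB1.genLocus L' (secHom s) ⊔ CohB1.genLocus _ (secHom t)) with hx | hx
  · refine ⟨0, _, Amp.hasSec_of_iso (M2.tensorPowOne L').symm (secHom s), hx, ?_⟩
    exact isAffineOpen_of_ne_top (X ↘ (Spec (CommRingCat.of k))) hd _ (hne hL' _ hdeg')
  · refine ⟨m, _, Amp.hasSec_of_iso (Iso.refl _) (secHom t), hx, ?_⟩
    exact isAffineOpen_of_ne_top (X ↘ (Spec (CommRingCat.of k))) hd _ (hne (M2.isInvertible_tensorPow hL' _) _ hdeg'')

/-- Ample on a proper integral curve implies positive degree. -/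
theorem deg_pos_of_isAmple [IsIntegral X] (hdim : topologicalKrullDim X = 1) {L : X.Modules}
    (h : CohB1.IsAmple L) : 0 < Curv2.deg k X L 1 := by
  have hX := curveLike k X hdim.le
  obtain ⟨hL, -, hc⟩ := Amp.isAmple_iff.1 h
  obtain ⟨n, G, ⟨φ, hφ⟩, hξ, hA⟩ := hc (genericPoint X)
  have hne : CohB1.genLocus (CohB1.tensorPow L (n + 1)) φ ≠ ⊤ := fun htop => by
    rw [hφ] at htop
    have hcl := NegTwist18.isClosed_of_closure_subset_affine (X ↘ (Spec (CommRingCat.of k))) hA
      (y := genericPoint X) (fun z _ => htop.ge (Opens.mem_top z))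
    have huniv := genericPoint_spec X
    rw [IsGenericPoint, hcl.closure_eq] at huniv
    haveI : Subsingleton X := ⟨fun a b => by
      have ha : a ∈ ({genericPoint X} : Set X) := huniv ▸ Set.mem_univ a
      have hb : b ∈ ({genericPoint X} : Set X) := huniv ▸ Set.mem_univ b
      rw [Set.mem_singleton_iff.1 ha, Set.mem_singleton_iff.1 hb]⟩
    haveI : DiscreteTopology X := Subsingleton.discreteTopology
    have h01 := hdim ▸ topologicalKrullDim_zero_of_discreteTopology X
    exact absurd h01 (by decide)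
  have hφ0 : Amp.gval φ ≠ 0 := fun h0 => by
    have hg := (Amp.mem_genLocus_iff (M2.isInvertible_tensorPow hL (n + 1)) φ).1 (by rw [hφ]; exact hξ)
    rw [h0] at hg
    exact one_ne_zero (α := X.presheaf.stalk (genericPoint X)) (hg.1 (by simp [Amp.gm]))
  obtain ⟨h1, h2⟩ := deg_section (k := k) hdim.le (M2.isInvertible_tensorPow hL (n + 1)) _ hφ0
  rw [hX.deg_tensorPow hL] at h1 h2
  refine lt_of_le_of_ne (by push_cast at h1; nlinarith) fun h0 => hne ?_
  haveI := h2 (by rw [← h0, mul_zero])
  rw [← Amp.secHom_gval φ]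
  exact genLocus_eq_top_of_isIso _

end Groth.Agent.CurveAmple18
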