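import Groth.Agent.Lib.CurveAmple18.Basic
import Groth.Agent.Lib.CurveCoh17.RegPoint
import Groth.Agent.Lib.CurveCoh17.HZero
import Groth.Agent.Lib.GeomRed18.Smooth
import Groth.Agent.Lib.TensorMod.Dual
import Mathlib.AlgebraicGeometry.Morphisms.Smooth

/-!
# Twisting by smooth points on a possibly singular integral curve
-/

set_option autoImplicit false
set_option linter.style.haveILetI false
set_option maxHeartbeats 800000
set_option backward.isDefEq.respectTransparency false

universe u

open CategoryTheory CategoryTheory.Limits AlgebraicGeometry TopologicalSpace Opposite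

namespace Groth.Agent.CurveAmple18

open Groth.Agent.CurveCoh17
open Groth.Agent.M1 (secHom)

variable {k : Type u} [Field k] {X : Scheme.{u}}

/-- The ideal of a regular closed point of an integral curve is invertible. -/
theorem isInvertible_pointIdeal_at [IsIntegral X] [IsNoetherian X] (hdim : topologicalKrullDim X = 1)
    {x : X} (hx : IsClosed ({x} : Set X)) [IsRegularLocalRing (X.presheaf.stalk x)] :
    PicF.IsInvertible (ClSub.idealMod (Scheme.IdealSheafData.vanishingIdeal (⟨{x}, hx⟩ : Closeds X))) := by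
  set Z := Scheme.IdealSheafData.vanishingIdeal (⟨{x}, hx⟩ : Closeds X)
  set I := ClSub.idealMod Z
  have hO : FlatMod.IsFinLocFreeOfRank 1 (Coh.structureModule X) :=
    (M2.isInvertible_iff_isFinLocFreeOfRank_one _).1 (PicLoc.isInvertible_structureModule X)
  have hc : Coh.IsCoh I := isCoh_idealMod Z
  haveI : Mono (ClSub.idealModι Z) := (M2.shortExact_idealMod Z).mono_f
  have hbij : ∀ y, y ≠ x → Function.Bijective (stalkLin (ClSub.idealModι Z) y) := fun y hy =>
    ⟨(M1.mono_iff_stalk (ClSub.idealModι Z)).1 inferInstance y, fun b =>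
      (M1.exact_iff_stalk_eq_zero _).1 (M2.shortExact_idealMod Z).exact y b
        ((suppIn_quotMod_point hx).zero y (by simpa using hy) _)⟩
  have hfree : ∀ y, Module.Free (X.presheaf.stalk y) (I.presheaf.stalk y) := fun y => by
    rcases eq_or_ne y x with rfl | hy
    · exact (VB17.free_stalk_of_mono hO hc (ClSub.idealModι Z) y (pid_stalk_of_regular hdim.le y)).1
    · obtain ⟨e⟩ := nonempty_stalk_equiv hO y
      exact Module.Free.of_equiv ((LinearEquiv.ofBijective _ (hbij y hy)).trans e).symm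
  have hlf : FlatMod.IsFinLocFree I := (M1.isFinLocFree_iff I).2 ⟨M1.isFP_of_isCoh hc, hfree⟩
  have hG : FlatMod.IsFinLocFreeOfRank (RankFree12.rk I (genericPoint X)) I := fun y => by
    obtain ⟨U, n, hyU, ⟨e⟩⟩ := hlf y
    refine ⟨U, hyU, ?_⟩
    rw [RankFree12.rk_of_freeMod hc.1 e (((genericPoint_spec X).mem_open_set_iff U.2).2 ⟨y, Set.mem_univ _, hyU⟩)]
    exact ⟨e⟩
  have hne := genericPoint_ne_of_isClosed hdim hx
  obtain ⟨e₁⟩ := nonempty_stalk_equiv hO (genericPoint X)
  obtain ⟨en⟩ := nonempty_stalk_equiv hG (genericPoint X)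
  have := (en.symm.trans ((LinearEquiv.ofBijective _ (hbij _ hne)).trans e₁)).finrank_eq
  rw [Module.finrank_fin_fun, Module.finrank_fin_fun] at this
  rw [this] at hG
  exact (M2.isInvertible_iff_isFinLocFreeOfRank_one _).2 hG

variable [X.Over (Spec (CommRingCat.of k))] [IsProper (X ↘ (Spec (CommRingCat.of k)))]

theorem exists_smooth_gen [PerfectField k] [IsIntegral X] {L : X.Modules} (hL : PicF.IsInvertible L)
    {s : Γ(L, (⊤ : X.Opens))} (hs : s ≠ 0) :
    ∃ P : X, IsClosed ({P} : Set X) ∧ IsRegularLocalRing (X.presheaf.stalk P) ∧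
      Amp.Gen (Amp.gm L P (U := ⊤) trivial s) := by
  let f := X ↘ Spec (CommRingCat.of k)
  haveI : JacobsonSpace X := LocallyOfFiniteType.jacobsonSpace f
  haveI : LocallyOfFinitePresentation f := VarDim.locallyOfFinitePresentation_of_locallyNoetherian f
  let W := CohB1.genLocus L (secHom s) ⊓ f.smoothLocus
  have hg : genericPoint X ∈ CohB1.genLocus L (secHom s) :=
    (Amp.mem_genLocus_iff hL _).2 (by rw [Amp.gval_secHom]; exact span_germ_genericPoint hL hs)
  obtain ⟨y, hy⟩ := f.dense_smoothLocus_of_perfectField.inter_open_nonempty _ (CohB1.genLocus L (secHom s)).2 ⟨_, hg⟩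
  obtain ⟨P, ⟨hPL, hPs⟩, hP⟩ := nonempty_inter_closedPoints (Z := (W : Set X)) ⟨y, hy⟩ W.isOpen.isLocallyClosed
  refine ⟨P, hP, GeomRed.isRegularLocalRing_of_mem_smoothLocus (k := k) hPs, ?_⟩
  have := (Amp.mem_genLocus_iff hL _).1 hPL
  rwa [Amp.gval_secHom] at this

theorem deg_pointIdeal [IsAlgClosed k] [IsIntegral X] (hdim : topologicalKrullDim X = 1) {P : X}
    (hP : IsClosed ({P} : Set X)) :
    Curv2.deg k X (ClSub.idealMod (Scheme.IdealSheafData.vanishingIdeal (⟨{P}, hP⟩ : Closeds X))) 1 = -1 := by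
  have hX := curveLike k X hdim.le
  haveI := hX.noetherian
  set Z := Scheme.IdealSheafData.vanishingIdeal (⟨{P}, hP⟩ : Closeds X)
  obtain ⟨-, -, hd⟩ := hX.twist_data (PicLoc.isInvertible_structureModule X) Z (by
    rw [show (Z.support : Set X) = {P} by simp [Z]]
    exact topologicalKrullDim_zero_of_discreteTopology _)
  rw [deg_iso (M2.tensorRUnit _), deg_structureModule, finrank_quotMod_point (k := k) hP,
    finrank_residueField hP] at hd
  simpa using hd

theorem exists_h0_pred [IsAlgClosed k] [IsIntegral X] (hdim : topologicalKrullDim X = 1) {L : X.Modules}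
    (hL : PicF.IsInvertible L) (h1 : Subsingleton (Coh.HH X L 1)) {n : ℕ}
    (h0 : Module.finrank k (Coh.HH X L 0) = n + 1) :
    ∃ L' : X.Modules, PicF.IsInvertible L' ∧ Subsingleton (Coh.HH X L' 1) ∧
      Module.finrank k (Coh.HH X L' 0) = n := by
  have hX := curveLike k X hdim.le
  haveI := hX.noetherian
  haveI : Nontrivial (Coh.HH X L 0) := Module.nontrivial_of_finrank_eq_succ h0
  obtain ⟨z, hz⟩ := exists_ne (0 : Coh.HH X L 0)
  obtain ⟨P, hP, hreg, hg⟩ := exists_smooth_gen (k := k) hL (hh0_ne_zero hz)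
  have hI := isInvertible_pointIdeal_at hdim hP
  set I := ClSub.idealMod (Scheme.IdealSheafData.vanishingIdeal (⟨{P}, hP⟩ : Closeds X))
  have e1 : Module.finrank k (Coh.HH X L 0) = Module.finrank k (Coh.HH X (CohB1.tensorMod L I) 0) + 1 :=
    hX.finrank_twist_of_span hL hP ⟨hh0 L z, top_le_iff.1 fun a _ => Submodule.mem_span_singleton.2 (hg.2 a)⟩
  have hLI := M2.isInvertible_tensor hL hI
  have hc := isCoh_of_ofRank ((M2.isInvertible_iff_isFinLocFreeOfRank_one _).1 hLI)
  have r1 := hX.rr (isCoh_of_ofRank ((M2.isInvertible_iff_isFinLocFreeOfRank_one _).1 hL))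
  have r2 := hX.rr hc
  rw [hX.deg_tensor_invertible hL hI, deg_pointIdeal hdim hP] at r2
  rw [Module.finrank_zero_of_subsingleton (M := Coh.HH X L 1)] at r1
  haveI := hX.fin _ hc 1
  have hH : Module.finrank k (Coh.HH X (CohB1.tensorMod L I) 1) = 0 := by
    omega
  exact ⟨_, hLI, Module.finrank_zero_iff.1 hH, by omega⟩

theorem exists_h0_one_and_zero [IsAlgClosed k] [IsIntegral X] (hdim : topologicalKrullDim X = 1) :
    (∃ L : X.Modules, PicF.IsInvertible L ∧ Module.finrank k (Coh.HH X L 0) = 1 ∧ Subsingleton (Coh.HH X L 1)) ∧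
    (∃ N : X.Modules, PicF.IsInvertible N ∧ Subsingleton (Coh.HH X N 0) ∧ Subsingleton (Coh.HH X N 1)) := by
  have hX := curveLike k X hdim.le
  haveI := hX.noetherian
  have key : ∀ n : ℕ, ∀ L : X.Modules, PicF.IsInvertible L → Subsingleton (Coh.HH X L 1) →
      Module.finrank k (Coh.HH X L 0) = n + 1 →
      (∃ L : X.Modules, PicF.IsInvertible L ∧ Module.finrank k (Coh.HH X L 0) = 1 ∧ Subsingleton (Coh.HH X L 1)) ∧
      (∃ N : X.Modules, PicF.IsInvertible N ∧ Subsingleton (Coh.HH X N 0) ∧ Subsingleton (Coh.HH X N 1)) := by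
    intro n
    induction n with
    | zero =>
      intro L hL h1 h0
      obtain ⟨N, hN, h1N, h0N⟩ := exists_h0_pred hdim hL h1 h0
      haveI := hX.fin _ (isCoh_of_ofRank ((M2.isInvertible_iff_isFinLocFreeOfRank_one _).1 hN)) 0
      exact ⟨⟨L, hL, h0, h1⟩, N, hN, Module.finrank_zero_iff.1 h0N, h1N⟩
    | succ n ih =>
      intro L hL h1 h0
      obtain ⟨L', hL', h1', h0'⟩ := exists_h0_pred hdim hL h1 h0
      exact ih L' hL' h1' h0'
  have hO := PicLoc.isInvertible_structureModule X
  have hnt : Nontrivial (Coh.HH X (Coh.structureModule X) 0) :=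
    Module.nontrivial_of_finrank_eq_succ (R := k) (n := 0) hX.h0_eq_one
  obtain ⟨z, hz⟩ := exists_ne (0 : Coh.HH X (Coh.structureModule X) 0)
  obtain ⟨P, hP, hreg, -⟩ := exists_smooth_gen (k := k) hO (hh0_ne_zero hz)
  obtain ⟨J, hJ, ⟨eJ⟩⟩ := M2.exists_inverse (isInvertible_pointIdeal_at hdim hP)
  have hdJ : Curv2.deg k X J 1 = 1 := by
    rw [hX.deg_of_tensor_iso (isInvertible_pointIdeal_at hdim hP) hJ eJ, deg_pointIdeal hdim hP]; norm_num
  have hpow := M2.isInvertible_tensorPow hJ (2 * Curv2.genus k X)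
  have hd := hX.deg_tensorPow hJ (2 * Curv2.genus k X)
  rw [hdJ] at hd
  push_cast at hd
  have h1 := hX.h1_subsingleton_of_deg (rkOne_of_invertible hdim.le hpow) hX.h0_eq_one (by omega)
  have hrr := hX.rr (isCoh_of_ofRank ((M2.isInvertible_iff_isFinLocFreeOfRank_one _).1 hpow))
  rw [Module.finrank_zero_of_subsingleton (M := Coh.HH X _ 1), hd, hX.h0_eq_one] at hrr
  exact key (Curv2.genus k X) _ hpow h1 (by omega)

end Groth.Agent.CurveAmple18
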