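import Groth.Agent.Lib.CurveAmple18.Basic
import Groth.Agent.Lib.CurveCoh17.TensorExact
import Groth.Agent.Lib.TensorMod.Dual

/-!
# Maps of invertible modules on integral curves
-/

set_option autoImplicit false
set_option linter.style.haveILetI false
set_option backward.isDefEq.respectTransparency false

universe u

open CategoryTheory CategoryTheory.Limits AlgebraicGeometry TopologicalSpace Opposite TensorProduct

namespace Groth.Agent.CurveAmple18

open Groth.Agent.CurveCoh17
open Groth.Agent.M1 (secHom)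

variable (k : Type u) [Field k] {X : Scheme.{u}} [X.Over (Spec (CommRingCat.of k))]
  [IsProper (X ↘ (Spec (CommRingCat.of k)))]

theorem eq_zero_of_stalkLin {M N : X.Modules} (φ : M ⟶ N) (h : ∀ x a, stalkLin φ x a = 0) : φ = 0 := by
  ext U s
  refine M1.section_ext _ _ fun x hx => ?_
  have := h x (M.presheaf.germ U x hx s)
  rw [stalkLin_apply, M1.germ_naturality] at this
  exact this.trans (map_zero _).symm

theorem stalkLin_zero {M N : X.Modules} (x : X) (a : M.presheaf.stalk x) : stalkLin (0 : M ⟶ N) x a = 0 := by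
  show (M1.stalkAb x).map (0 : M ⟶ N) a = 0
  rw [Functor.map_zero]
  rfl

theorem deg_hom [IsIntegral X] (hd : topologicalKrullDim X ≤ 1) {N L : X.Modules}
    (hN : PicF.IsInvertible N) (hL : PicF.IsInvertible L) (φ : N ⟶ L) (hφ : φ ≠ 0) :
    Curv2.deg k X N 1 ≤ Curv2.deg k X L 1 ∧ (Curv2.deg k X N 1 = Curv2.deg k X L 1 → IsIso φ) := by
  classical
  have hX := curveLike k X hd
  obtain ⟨M, hM, ⟨e⟩⟩ := M2.exists_inverse hN
  have eM := fun x => (nonempty_stalk_equiv ((M2.isInvertible_iff_isFinLocFreeOfRank_one M).1 hM) x).some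
  let E : ∀ (A : X.Modules) (x : X), (CohB1.tensorMod A M).presheaf.stalk x ≃ₗ[X.presheaf.stalk x]
      (Fin 1 → A.presheaf.stalk x) := fun A x => stalkTensorPi A M x (eM x)
  have hE : ∀ (x : X) (a : (CohB1.tensorMod N M).presheaf.stalk x) (i : Fin 1),
      E L x (stalkLin (M2.tensorMap φ (𝟙 M)) x a) i = stalkLin φ x (E N x a i) := by
    intro x a i
    simp only [E, stalkTensorPi, LinearEquiv.trans_apply, stalkEquiv_natural]
    induction M2.stalkEquiv N M x a using TensorProduct.induction_on with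
    | zero => simp
    | add z z' hz hz' => simp only [map_add, Pi.add_apply, hz, hz']
    | tmul p q => simp
  let ψ : CohB1.tensorMod N M ⟶ CohB1.tensorMod L M := M2.tensorMap φ (𝟙 M)
  have hψ : ψ ≠ 0 := fun h0 => hφ (eq_zero_of_stalkLin φ fun x p => by
    obtain ⟨a, ha⟩ := (E N x).surjective fun _ => p
    have h1 := hE x a 0
    rw [ha] at h1
    rw [← h1]
    show E L x (stalkLin ψ x a) 0 = 0
    rw [h0, stalkLin_zero, map_zero]
    rfl)
  have hs : e.inv ≫ ψ ≠ 0 := fun h0 => hψ (by rw [← e.hom_inv_id_assoc ψ, h0, Limits.comp_zero])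
  obtain ⟨h1, h2⟩ := deg_section (k := k) hd (M2.isInvertible_tensor hL hM) _ (gval_ne_zero hs)
  rw [Amp.secHom_gval] at h2
  rw [hX.deg_tensor_invertible hL hM, hX.deg_of_tensor_iso hN hM e] at h1 h2
  refine ⟨by linarith, fun heq => ?_⟩
  haveI := h2 (by linarith)
  haveI : IsIso ψ := by
    have : IsIso (e.hom ≫ e.inv ≫ ψ) := inferInstance
    rwa [e.hom_inv_id_assoc] at this
  refine (M1.isIso_iff_stalk φ).2 fun x => ?_
  have hb : Function.Bijective (stalkLin ψ x) := (M1.isIso_iff_stalk ψ).1 inferInstance x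
  refine ⟨fun p p' hp => ?_, fun q => ?_⟩
  · obtain ⟨a, ha⟩ := (E N x).surjective fun _ => p
    obtain ⟨a', ha'⟩ := (E N x).surjective fun _ => p'
    have : stalkLin ψ x a = stalkLin ψ x a' := (E L x).injective (funext fun i => by
      rw [hE, hE, ha, ha']
      exact hp)
    rw [hb.1 this] at ha
    exact congrFun (ha.symm.trans ha') 0
  · obtain ⟨b, hb'⟩ := (E L x).surjective fun _ => q
    obtain ⟨a, rfl⟩ := hb.2 b
    refine ⟨E N x a 0, ?_⟩
    show stalkLin φ x (E N x a 0) = q
    rw [← hE]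
    exact congrFun hb' 0

end Groth.Agent.CurveAmple18
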